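import Groth.Agent.Big.SectionDivisor
import Groth.Agent.ProjUPX.Sections
import Groth.Agent.ProjPt.Sections

/-!
# Homogeneous coordinates of a rational point and the linear forms through it
-/

set_option autoImplicit false
set_option linter.style.haveILetI false
set_option linter.unusedSectionVars false
set_option backward.isDefEq.respectTransparency false
set_option backward.isDefEq.respectTransparency.types false
set_option maxHeartbeats 1000000

universe u

open CategoryTheory CategoryTheory.Limits AlgebraicGeometry TopologicalSpace Opposite HomogeneousLocalization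

noncomputable section

namespace Groth.Agent.TorHyp

open Groth.Agent

variable {k : Type u} [Field k] {m : ℕ}

/-- The linear form with coefficients `c`. -/
def form (c : Fin (m + 1) → k) : MvPolynomial (Fin (m + 1)) k := ∑ j, c j • MvPolynomial.X j

theorem form_mem (c : Fin (m + 1) → k) : form c ∈ CohB1.polyGrading m k 1 :=
  sum_mem fun j _ => Submodule.smul_mem _ _ (ProjPt.X_mem j)

theorem away_mk_form (i : Fin (m + 1)) (c : Fin (m + 1) → k) :
    Away.mk (CohB1.polyGrading m k) (ProjPt.X_mem i) 1 (form c) (by rw [one_smul]; exact form_mem c) =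
      ∑ j, ProjPt.cst i (c j) * ProjPt.crd i j := by
  rw [ProjPt.mk_eq_eval, form, map_sum]
  refine Finset.sum_congr rfl fun j _ => ?_
  rw [MvPolynomial.smul_eq_C_mul, map_mul, MvPolynomial.eval₂Hom_C, MvPolynomial.eval₂Hom_X']

theorem mem_basicOpen_form_iff (i : Fin (m + 1)) (c : Fin (m + 1) → k)
    (q : Spec (CommRingCat.of (Away (CohB1.polyGrading m k) (MvPolynomial.X i)))) :
    Proj.awayι (CohB1.polyGrading m k) _ (ProjPt.X_mem i) one_pos q ∈
        Proj.basicOpen (CohB1.polyGrading m k) (form c) ↔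
      (∑ j, ProjPt.cst i (c j) * ProjPt.crd i j) ∉ q.asIdeal := by
  rw [← Scheme.Hom.mem_preimage, Proj.awayι_preimage_basicOpen (g_deg := form_mem c) (hm' := one_pos),
    ← away_mk_form]
  have : Away.isLocalizationElem (ProjPt.X_mem i) (form_mem c) =
      Away.mk (CohB1.polyGrading m k) (ProjPt.X_mem i) 1 (form c) (by rw [one_smul]; exact form_mem c) := by
    refine val_injective _ ?_
    rw [Away.val_mk, Away.val_mk]
    simp only [pow_one]
  rw [this]
  rfl

variable (s : Spec (CommRingCat.of k) ⟶ CohB1.ProjSpace m k) (hs : s ≫ CohB1.ProjSpace.toSpec m k = 𝟙 _)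

/-- The image of the point. -/
abbrev image : CohB1.ProjSpace m k := s default

include hs in
/-- A rational point has a chart in which it is given by a map of rings over `k`. -/
theorem exists_chart : ∃ (i : Fin (m + 1)) (u : Away (CohB1.polyGrading m k) (MvPolynomial.X i) →+* k),
    u.comp (ProjPt.cst i) = RingHom.id k ∧
      s = Spec.map (CommRingCat.ofHom u) ≫ Proj.awayι (CohB1.polyGrading m k) _ (ProjPt.X_mem i) one_pos := by
  obtain ⟨i, hi⟩ := ProjUPX.cov_X (image s)
  let ι := Proj.awayι (CohB1.polyGrading m k) _ (ProjPt.X_mem i) one_pos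
  have hr : Set.range s ⊆ Set.range ι := by
    rintro _ ⟨x, rfl⟩
    rw [Subsingleton.elim x default, ← Scheme.Hom.coe_opensRange, Proj.opensRange_awayι]
    exact hi
  let l := IsOpenImmersion.lift ι s hr
  refine ⟨i, (Spec.preimage l).hom, ?_, ?_⟩
  · have h : Spec.map (Spec.preimage l) ≫ Spec.map (CommRingCat.ofHom (ProjPt.cst i)) = 𝟙 _ := by
      rw [Spec.map_preimage, ← hs, ← IsOpenImmersion.lift_fac ι s hr]
      simp only [Category.assoc]
      rw [CohB1.ProjSpace.toSpec, Proj.awayι_toSpecZero_assoc, ← Spec.map_comp]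
      rfl
    rw [← Spec.map_comp, ← Spec.map_id] at h
    exact congrArg CommRingCat.Hom.hom (Spec.map_injective h)
  · rw [show CommRingCat.ofHom (Spec.preimage l).hom = Spec.preimage l from rfl, Spec.map_preimage,
      IsOpenImmersion.lift_fac]

variable {i : Fin (m + 1)} {u : Away (CohB1.polyGrading m k) (MvPolynomial.X i) →+* k}

theorem eval_form (hu : u.comp (ProjPt.cst i) = RingHom.id k) (c : Fin (m + 1) → k) :
    u (∑ j, ProjPt.cst i (c j) * ProjPt.crd i j) = ∑ j, c j * u (ProjPt.crd i j) := by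
  rw [map_sum]
  refine Finset.sum_congr rfl fun j _ => ?_
  rw [map_mul, ← RingHom.comp_apply, hu, RingHom.id_apply]

/-- The point lies off the hyperplane exactly when the form does not vanish at the coordinates. -/
theorem image_mem_iff (hu : u.comp (ProjPt.cst i) = RingHom.id k)
    (hsu : s = Spec.map (CommRingCat.ofHom u) ≫ Proj.awayι (CohB1.polyGrading m k) _ (ProjPt.X_mem i) one_pos)
    (c : Fin (m + 1) → k) :
    image s ∈ Proj.basicOpen (CohB1.polyGrading m k) (form c) ↔ ∑ j, c j * u (ProjPt.crd i j) ≠ 0 := by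
  subst hsu
  refine (mem_basicOpen_form_iff i c _).trans ?_
  rw [← eval_form hu]
  show ¬ (u _ ∈ (default : Spec (CommRingCat.of k)).asIdeal) ↔ _
  rw [Ideal.eq_bot_of_prime (default : Spec (CommRingCat.of k)).asIdeal, Ideal.mem_bot]

include hs in
/-- The linear forms through a rational point separate it from every other point. -/
theorem exists_form {y : CohB1.ProjSpace m k} (hy : y ≠ image s) :
    ∃ c : Fin (m + 1) → k, image s ∉ Proj.basicOpen (CohB1.polyGrading m k) (form c) ∧
      y ∈ Proj.basicOpen (CohB1.polyGrading m k) (form c) := by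
  obtain ⟨i, u, hu, hsu⟩ := exists_chart s hs
  by_contra! h
  let v : Fin (m + 1) → k := fun j => u (ProjPt.crd i j)
  let e : Fin (m + 1) → Fin (m + 1) → k := fun j => Pi.single j 1 - v j • Pi.single i 1
  have he : ∀ j, image s ∉ Proj.basicOpen (CohB1.polyGrading m k) (form (e j)) := fun j => by
    rw [image_mem_iff s hu hsu, not_not]
    simp [e, sub_mul, Finset.sum_sub_distrib, Pi.single_apply, ite_mul, mul_ite, Finset.sum_ite_eq', v,
      ProjPt.crd_self, map_one]
  have hform : ∀ j, form (e j) = MvPolynomial.X j - v j • MvPolynomial.X i := fun j => by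
    simp [form, e, sub_smul, Finset.sum_sub_distrib, Pi.single_apply, ite_smul, mul_smul]
  have hyi : y ∈ Proj.basicOpen (CohB1.polyGrading m k) (MvPolynomial.X i) := by
    by_contra hyi
    obtain ⟨j, hj⟩ := ProjUPX.cov_X y
    refine h _ (he j) ?_
    rw [Proj.mem_basicOpen, hform, MvPolynomial.smul_eq_C_mul]
    rw [Proj.mem_basicOpen] at hj hyi
    exact fun hd => hj ((Ideal.add_mem_iff_left _ (Ideal.neg_mem_iff _ |>.2 (Ideal.mul_mem_left _ _ (not_not.1 hyi)))).1
      (by rwa [← sub_eq_add_neg]))
  rw [← Proj.opensRange_awayι (CohB1.polyGrading m k) _ (ProjPt.X_mem i) one_pos] at hyi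
  obtain ⟨q, rfl⟩ := hyi
  refine hy ?_
  rw [image, hsu, Scheme.Hom.comp_apply]
  refine congrArg _ (PrimeSpectrum.ext ?_)
  have hle : RingHom.ker u ≤ q.asIdeal := fun a ha => by
    obtain ⟨d, b, hb, rfl⟩ := Away.mk_surjective (CohB1.polyGrading m k) (ProjPt.X_mem i) a
    rw [ProjPt.mk_eq_eval] at ha ⊢
    have hgen : ∀ j, ProjPt.crd i j - ProjPt.cst i (v j) ∈ q.asIdeal := fun j => by
      have h1 := h _ (he j)
      rw [mem_basicOpen_form_iff, not_not] at h1
      convert h1 using 1
      simp [e, sub_mul, Finset.sum_sub_distrib, Pi.single_apply, map_mul, ite_mul, apply_ite (ProjPt.cst i),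
        ProjPt.crd_self, mul_ite]
    rw [← Ideal.Quotient.eq_zero_iff_mem, MvPolynomial.map_eval₂Hom]
    have hv : (fun j => Ideal.Quotient.mk q.asIdeal (ProjPt.crd i j)) =
        fun j => ((Ideal.Quotient.mk q.asIdeal).comp (ProjPt.cst i)) (v j) := funext fun j =>
      Ideal.Quotient.eq.2 (hgen j)
    rw [RingHom.mem_ker, MvPolynomial.map_eval₂Hom, hu] at ha
    rw [hv]
    refine Eq.trans ?_ ((MvPolynomial.map_eval₂Hom (RingHom.id k) v
      ((Ideal.Quotient.mk q.asIdeal).comp (ProjPt.cst i)) b).symm.trans ?_)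
    · rw [RingHom.comp_id]
    · rw [show MvPolynomial.eval₂Hom (RingHom.id k) v b = 0 from ha, map_zero]
  have hmax : (RingHom.ker u).IsMaximal :=
    RingHom.ker_isMaximal_of_surjective u fun r => ⟨ProjPt.cst i r, RingHom.congr_fun hu r⟩
  show q.asIdeal = Ideal.comap u (default : Spec (CommRingCat.of k)).asIdeal
  rw [Ideal.eq_bot_of_prime (default : Spec (CommRingCat.of k)).asIdeal]
  exact (hmax.eq_of_le q.isPrime.ne_top hle).symm

include hs in
/-- The relations among the coordinates are the forms vanishing at the point. -/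
theorem mem_secKernel_iff (c : Fin (m + 1) → k) :
    c ∈ ProjUP.secKernel m k s ↔ image s ∉ Proj.basicOpen (CohB1.polyGrading m k) (form c) := by
  obtain ⟨i, u, hu, hsu⟩ := exists_chart s hs
  rw [image_mem_iff s hu hsu, not_not]
  let D := Proj.basicOpen (CohB1.polyGrading m k) (MvPolynomial.X i)
  let L := (Scheme.Modules.pullback s).obj (Twist.twistProjSpace m k 1)
  have hD : (⊤ : (Spec (CommRingCat.of k)).Opens) ≤ s ⁻¹ᵁ D := fun x _ => by
    show s x ∈ D
    rw [show D = (Proj.awayι (CohB1.polyGrading m k) _ (ProjPt.X_mem i) one_pos).opensRange from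
      (Proj.opensRange_awayι _ _ _ _).symm, hsu]
    exact ⟨_, rfl⟩
  have e1 : (⊤ : (Spec (CommRingCat.of (Away (CohB1.polyGrading m k) (MvPolynomial.X i)))).Opens) ≤
      Proj.awayι (CohB1.polyGrading m k) _ (ProjPt.X_mem i) one_pos ⁻¹ᵁ D := by
    show ⊤ ≤ _ ⁻¹ᵁ Proj.basicOpen (CohB1.polyGrading m k) (MvPolynomial.X i)
    rw [← Proj.opensRange_awayι (CohB1.polyGrading m k) _ (ProjPt.X_mem i) one_pos,
      Scheme.Hom.preimage_opensRange]
  let e := AModX.res L hD (PnCoh.Chow.pFrame s (ProjPt.X_mem i) (1 : ℤ))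
  have he : InvX.IsFrame e := (PnCoh.Chow.isFrame_pFrame s _ _).res _
  have hval : ∀ j, ProjUP.pullSec s (Twist.twistProjSpace m k 1) (ProjUP.coord m k j) =
      (Scheme.ΓSpecIso (CommRingCat.of k)).inv (u (ProjPt.crd i j)) • e := fun j => by
    let η := (Scheme.Modules.pullbackPushforwardAdjunction s).unit.app (Twist.twistProjSpace m k 1)
    have h1 := congrArg (η.app D) (Big.globalOf_eq_smul (𝒜 := CohB1.polyGrading m k) (ProjPt.X_mem j) (ProjPt.X_mem i))
    rw [Scheme.Modules.Hom.app_smul] at h1
    have h2 := congrArg (AModX.res L hD) ((AModX.app_res η (le_top : D ≤ ⊤) (ProjUP.coord m k j)).symm.trans h1)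
    refine Eq.trans ((AModX.res_self _).symm.trans (AModX.res_res _ _ _).symm)
      (h2.trans ((AModX.res_smul _ _ _).trans ?_))
    show _ • e = _
    congr 1
    have hr : PnCoh.Finite.ratio (ProjPt.X_mem i) (ProjPt.X_mem j) =
        (Proj.awayToSection (CohB1.polyGrading m k) (MvPolynomial.X i)).hom (ProjPt.crd i j) := by
      refine Subtype.ext (funext fun x => val_injective _ ?_)
      erw [PnCoh.Finite.ratio_val]
      show _ = Localization.mk _ ⟨MvPolynomial.X i ^ 1, _⟩
      rw [Localization.mk_eq_mk_iff, Localization.r_iff_exists]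
      exact ⟨1, by simp⟩
    rw [hr]
    show (s.appLE D ⊤ hD).hom _ = _
    have key : Proj.awayToSection (CohB1.polyGrading m k) (MvPolynomial.X i) ≫ s.appLE D ⊤ hD =
        CommRingCat.ofHom u ≫ (Scheme.ΓSpecIso (CommRingCat.of k)).inv := by
      subst hsu
      rw [← Scheme.Hom.appLE_comp_appLE _ _ D ⊤ ⊤ e1 le_top, ← Category.assoc, ProjPt.awayι_appLE]
      refine Eq.trans ?_ (Scheme.ΓSpecIso_inv_naturality _).symm
      congr 1
    exact ConcreteCategory.congr_hom key _
  rw [ProjUPX.secKernel_eq]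
  letI := ProjUPX.specModule L
  show (∑ j, c j • (ProjUP.pullSec s (Twist.twistProjSpace m k 1) (ProjUP.coord m k j) : Γ(L, ⊤))) = 0 ↔ _
  let γ := (Scheme.ΓSpecIso (CommRingCat.of k)).inv.hom
  have hsum : (∑ j, c j • (ProjUP.pullSec s (Twist.twistProjSpace m k 1) (ProjUP.coord m k j) : Γ(L, ⊤))) =
      γ (∑ j, c j * u (ProjPt.crd i j)) • e := by
    rw [map_sum, Finset.sum_smul]
    refine Finset.sum_congr rfl fun j _ => ?_
    rw [map_mul, mul_smul]
    exact congrArg (fun x : Γ(L, ⊤) => γ (c j) • x) (hval j)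
  rw [hsum]
  constructor
  · intro h
    refine (Scheme.ΓSpecIso (CommRingCat.of k)).commRingCatIsoToRingEquiv.symm.injective ?_
    rw [map_zero]
    exact he.coord_unique le_rfl (by rw [AModX.res_self, zero_smul]; exact h)
  · intro h
    rw [h, map_zero, zero_smul]

end Groth.Agent.TorHyp

end
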