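import Groth.Agent.Big.Positive
import Groth.Agent.MeroX.DivDim
import Groth.Agent.FibDim.Comp
import Groth.Agent.Big.NegDef
import Groth.Agent.Big.SectionDivisor
import Groth.Agent.TorHyp.Coord
import Groth.Agent.VarDim.Local
import Groth.Agent.VarDim.Fibre

/-!
# The points of a finite fibre are bounded by the self-intersection
-/

set_option autoImplicit false
set_option linter.style.haveILetI false
set_option linter.unusedSectionVars false
set_option backward.isDefEq.respectTransparency false
set_option backward.isDefEq.respectTransparency.types false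
set_option maxHeartbeats 1000000

universe u

open CategoryTheory CategoryTheory.Limits AlgebraicGeometry TopologicalSpace Opposite
open Groth.Agent.H23.PicMul

noncomputable section

namespace Groth.Agent.TorHyp

open Groth.Agent Groth.Agent.Big

variable (k : Type u) [Field k]

/-- Every point of a divisor generalizes to a point of the divisor of codimension one. -/
theorem exists_top_generization {X : Scheme.{u}} [X.Over (Spec (CommRingCat.of k))]
    [IsProper (X ↘ Spec (CommRingCat.of k))] [IsIntegral X] {r : ℕ} (hdim : topologicalKrullDim X = (r + 1 : ℕ))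
    {D : X.IdealSheafData} (hD : BlowUp.IsEffCartierIdeal D) {x : X} (hx : x ∈ (D.support : Set X)) :
    ∃ η ∈ (D.support : Set X), η ⤳ x ∧ topologicalKrullDim (closure ({η} : Set X)) = (r : WithBot ℕ∞) := by
  let f := X ↘ Spec (CommRingCat.of k)
  haveI := CurveCohLib.isNoetherian_of_proper (k := k) (X := X)
  obtain ⟨z, rfl⟩ : x ∈ Set.range D.subschemeι := by rwa [D.range_subschemeι]
  obtain ⟨w, hwz, hmax⟩ := FibDim.exists_maximal_generization z
  have hw : D.subschemeι w ∈ (D.support : Set X) := by rw [← D.range_subschemeι]; exact ⟨w, rfl⟩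
  have hgen : ∀ y ∈ (D.support : Set X), y ⤳ D.subschemeι w → y = D.subschemeι w := fun y hy hyw => by
    rw [← D.range_subschemeι] at hy
    obtain ⟨v, rfl⟩ := hy
    rw [hmax v (D.subschemeι.isEmbedding.isInducing.specializes_iff.1 hyw)]
  refine ⟨D.subschemeι w, hw, hwz.map D.subschemeι.continuous, ?_⟩
  obtain ⟨b, hb, ⟨η, hη, hηd⟩, hle⟩ := VarDim.exists_deg_add_stalk f (D.subschemeι w)
  have h1 := MeroX.stalk_dim_eq_one D hD _ hw hgen
  rw [hb] at h1
  obtain rfl : b = 1 := by exact_mod_cast h1
  have hg : VarDim.deg f (genericPoint X) = r + 1 := by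
    have := (VarDim.topologicalKrullDim_eq_deg_genericPoint f).symm.trans hdim
    exact_mod_cast this
  have e1 := hle _ (genericPoint_specializes _)
  have e2 := VarDim.deg_le_of_specializes f (genericPoint_specializes η)
  rw [VarDim.topologicalKrullDim_closure_singleton f]
  have : VarDim.deg f (D.subschemeι w) = r := by omega
  rw [this]
  rfl

/-- The bound in dimension `n`. -/
def Cnt (m n : ℕ) : Prop :=
  ∀ (Z : Scheme.{u}) [Z.Over (Spec (CommRingCat.of k))] [IsProper (Z ↘ Spec (CommRingCat.of k))] [IsIntegral Z],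
    topologicalKrullDim Z = n → ∀ (ψ : Z ⟶ CohB1.ProjSpace m k) (P : CohB1.ProjSpace m k),
      (∀ y, y ≠ P → ∃ c : Fin (m + 1) → k, P ∉ Proj.basicOpen (CohB1.polyGrading m k) (form c) ∧
        y ∈ Proj.basicOpen (CohB1.polyGrading m k) (form c)) →
      (∀ z, ψ z = P → IsClosed ({z} : Set Z)) → ∀ M : Z.Modules, PicF.IsInvertible M →
        PicF.cl (PnCoh.Chow.pullTw ψ ((1 : ℕ) : ℤ)) * PicF.cl M = 1 →
          ∀ S : Finset Z, (∀ z ∈ S, ψ z = P) → (S.card : ℚ) ≤ alt k (fun _ : Fin n => M) (Coh.structureModule Z)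

variable {k}

theorem cnt_zero (m : ℕ) : Cnt.{u} k m 0 := fun Z _ _ _ hdim ψ P _ _ M _ _ S _ => by
  have hsub : S.card ≤ 1 := Finset.card_le_one.2 fun a _ b _ => by
    have h : ∀ z : Z, z = genericPoint Z := fun z => by
      have := Euler.closure_eq_self_of_dim_le_zero isClosed_univ
        ((topologicalKrullDim_subspace_le Z _).trans hdim.le) (Set.mem_univ (genericPoint Z))
      rw [genericPoint_closure] at this
      exact this.le (Set.mem_univ z)
    rw [h a, h b]
  have hpos := pos_zero k Z hdim (fun _ => M) (fun _ => M) (fun j => j.elim0) (fun j => j.elim0) fun j => j.elim0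
  have e : alt k (fun _ : Fin 0 => M) (Coh.structureModule Z) = (Curv2.euler k Z (Coh.structureModule Z) : ℚ) := by
    rw [alt, Fintype.sum_unique]
    simp only [sgn, Finset.univ_eq_empty, Finset.prod_empty, one_mul]
    rfl
  rw [e] at hpos ⊢
  have h1 : (1 : ℤ) ≤ Curv2.euler k Z (Coh.structureModule Z) := by exact_mod_cast hpos
  refine le_trans (Nat.cast_le.2 hsub) ?_
  rw [Nat.cast_one]
  exact_mod_cast h1

/-- The components bound the points of a finite subset of the support. -/
theorem card_le_sum {m n : ℕ} (IH : Cnt.{u} k m n) {X : Scheme.{u}} [X.Over (Spec (CommRingCat.of k))]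
    [IsProper (X ↘ Spec (CommRingCat.of k))] (ψ : X ⟶ CohB1.ProjSpace m k) {P : CohB1.ProjSpace m k}
    (hP : ∀ y, y ≠ P → ∃ c : Fin (m + 1) → k, P ∉ Proj.basicOpen (CohB1.polyGrading m k) (form c) ∧
      y ∈ Proj.basicOpen (CohB1.polyGrading m k) (form c))
    (hcl : ∀ z, ψ z = P → IsClosed ({z} : Set X)) {M : X.Modules} (hM : PicF.IsInvertible M)
    (hLM : PicF.cl (PnCoh.Chow.pullTw ψ ((1 : ℕ) : ℤ)) * PicF.cl M = 1) (D : X.IdealSheafData)
    (hr : topologicalKrullDim ↥(D.support : Set X) ≤ n) (S : Finset X) (hS : ∀ z ∈ S, ψ z = P)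
    (hcov : ∀ z ∈ S, ∃ η ∈ (D.support : Set X), η ⤳ z ∧ topologicalKrullDim (closure ({η} : Set X)) = (n : WithBot ℕ∞)) :
    (S.card : ℚ) ≤ alt k (fun _ : Fin n => M) (ClSub.quotMod D) := by
  classical
  haveI := CurveCohLib.isNoetherian_of_proper (k := k) (X := X)
  have hQ := ParShLib.isCoh_quotMod D
  have hfin := Snapper.finite_topPts (C := D.support) hr
  rw [alt_components k (fun _ => hM) hQ (C := D.support) hr (support_quotMod_subset D) hfin.toFinset
    fun ξ => hfin.mem_toFinset]
  have hsub : S ⊆ hfin.toFinset.biUnion fun ξ => S.filter fun z => z ∈ closure ({ξ} : Set X) := fun z hz => by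
    obtain ⟨η, hη, hηz, hηd⟩ := hcov z hz
    exact Finset.mem_biUnion.2 ⟨η, hfin.mem_toFinset.2 ⟨hη, hηd⟩, Finset.mem_filter.2 ⟨hz, hηz.mem_closure⟩⟩
  refine le_trans (Nat.cast_le.2 ((Finset.card_le_card hsub).trans Finset.card_biUnion_le)) ?_
  rw [Nat.cast_sum]
  refine Finset.sum_le_sum fun ξ hξ => ?_
  obtain ⟨hξC, hξd⟩ := hfin.mem_toFinset.1 hξ
  let W := Scheme.IdealSheafData.vanishingIdeal (⟨closure ({ξ} : Set X), isClosed_closure⟩ : Closeds X)
  letI : W.subscheme.Over (Spec (CommRingCat.of k)) := ⟨W.subschemeι ≫ (X ↘ Spec (CommRingCat.of k))⟩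
  haveI : IsProper (W.subscheme ↘ Spec (CommRingCat.of k)) :=
    inferInstanceAs (IsProper (W.subschemeι ≫ (X ↘ Spec (CommRingCat.of k))))
  haveI : IsIntegral W.subscheme := QCoh.isIntegral_closure_point ξ
  have hrange : Set.range W.subschemeι = closure ({ξ} : Set X) := H23.RedSub.range_vanishingIdeal _
  have hd : topologicalKrullDim W.subscheme = n :=
    (AmpleDev.dim_eq_one_of_closedImmersion W.subschemeι hrange).trans hξd
  have hinj := W.subschemeι.isClosedEmbedding.injective
  let S' : Finset W.subscheme := S.preimage W.subschemeι hinj.injOn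
  have hcard : (S.filter fun z => z ∈ closure ({ξ} : Set X)).card ≤ S'.card := by
    rw [← Finset.card_image_of_injective S' hinj]
    refine Finset.card_le_card fun z hz => ?_
    obtain ⟨hzS, hzc⟩ := Finset.mem_filter.1 hz
    rw [← hrange] at hzc
    obtain ⟨w, rfl⟩ := hzc
    exact Finset.mem_image.2 ⟨w, Finset.mem_preimage.2 hzS, rfl⟩
  have hih := IH W.subscheme hd (W.subschemeι ≫ ψ) P hP (fun w hw => by
      have h := (hcl (W.subschemeι w) hw).preimage W.subschemeι.continuous
      rwa [← Set.image_singleton, hinj.preimage_image] at h)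
    ((Scheme.Modules.pullback W.subschemeι).obj M) (PicClLib.isInvertible_pullback _ hM)
    (by
      have e : PicF.cl (PnCoh.Chow.pullTw (W.subschemeι ≫ ψ) ((1 : ℕ) : ℤ)) =
          PicF.pullCl W.subschemeι (PicF.cl (PnCoh.Chow.pullTw ψ ((1 : ℕ) : ℤ))) :=
        (PicClLib.pullCl_comp W.subschemeι ψ (PicF.cl (Twist.twistProjSpace m k ((1 : ℕ) : ℤ)))).symm
      show _ * PicF.pullCl W.subschemeι (PicF.cl M) = 1
      rw [e, ← pullCl_mul, hLM, pullCl_one])
    S' (fun w hw => hS _ (Finset.mem_preimage.1 hw))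
  rw [← alt_push k W.subschemeι rfl (fun _ => hM) QCoh.isQCoh_structureModule] at hih
  have hnt := CurveCohLib.GlobGen.nontrivial_stalk_quotMod D hξC
  have hlen : (1 : ℚ) ≤ Snapper.len (ClSub.quotMod D) ξ := by
    have hlt := CycLib.length_stalk_lt_top _ hQ (ξ := ξ) fun y hy hyx =>
      Snapper.eq_of_specializes_topPts (C := D.support) hr ⟨hξC, hξd⟩
        (support_quotMod_subset D (not_subsingleton_iff_nontrivial.2 hy)) hyx
    rw [Snapper.len, Nat.one_le_cast]
    exact Nat.pos_of_ne_zero fun h => by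
      rcases ENat.toNat_eq_zero.1 h with h | h
      · exact hnt (Module.length_eq_zero_iff.1 h)
      · exact hlt.ne h
  refine le_trans (Nat.cast_le.2 hcard) (hih.trans ?_)
  refine le_mul_of_one_le_left ?_ hlen
  exact le_trans (Nat.cast_nonneg _) hih

/-- The inductive step. -/
theorem cnt_succ {m n : ℕ} (IH : Cnt.{u} k m n) : Cnt.{u} k m (n + 1) := fun Z _ _ _ hdim ψ P hP hcl M hM hLM S hS => by
  classical
  haveI := CurveCohLib.isNoetherian_of_proper (k := k) (X := Z)
  have hη : ψ (genericPoint Z) ≠ P := fun h => by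
    have hc := hcl _ h
    have : (Set.univ : Set Z) = {genericPoint Z} := by rw [← hc.closure_eq, genericPoint_closure]
    have h0 : topologicalKrullDim Z ≤ 0 := by
      haveI : Subsingleton Z := ⟨fun a b => (this.le (Set.mem_univ a) : a = _).trans (this.le (Set.mem_univ b) : b = _).symm⟩
      exact topologicalKrullDim_zero_of_discreteTopology _
    rw [hdim] at h0
    exact absurd (show n + 1 ≤ 0 by exact_mod_cast h0) (by omega)
  obtain ⟨c, hcP, hcη⟩ := hP _ hη
  obtain ⟨I, hI, hIs, hIcl⟩ := exists_linForm_divisor ψ (form c) (form_mem c) hcη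
  have hS' : ∀ z ∈ S, z ∈ (I.support : Set Z) := fun z hz => by
    rw [hIs]
    intro h
    exact hcP (by rw [← hS z hz]; exact h)
  have hclM : PicF.cl M = PicF.cl (ClSub.idealMod I) := by
    calc PicF.cl M = PicF.cl M * (PicF.cl (PnCoh.Chow.pullTw ψ ((1 : ℕ) : ℤ)) * PicF.cl (ClSub.idealMod I)) := by
          rw [hIcl, mul_one]
      _ = PicF.cl (ClSub.idealMod I) := by rw [← mul_assoc, mul_comm (PicF.cl M), hLM, one_mul]
  haveI : Mono ((AmpleVan.tw (Coh.structureModule Z)).map (ClSub.idealModι I)) := by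
    haveI := AmpleVan.isEquivalence_tw (CurveDeg.isInvertible_structureModule (X := Z))
    haveI : Mono (ClSub.idealModι I) := inferInstanceAs (Mono (kernel.ι _))
    infer_instance
  have e0 : alt k (fun _ : Fin (n + 1) => M) (Coh.structureModule Z) =
      alt k (Fin.cons (ClSub.idealMod I) fun _ : Fin n => M) (Coh.structureModule Z) :=
    alt_congr_cl k (Fin.cases hclM fun _ => rfl) rfl
  rw [e0, alt_cons_ideal k (fun _ => hM) QCoh.isCoh_structureModule' (isInvertible_ideal hI),
    alt_congr_cl k (N := fun _ : Fin n => M) (G := ClSub.quotMod I) (fun _ => rfl) (by rw [cl_tensor, one_mul_cl])]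
  exact card_le_sum IH ψ hP hcl hM hLM I (dim_support_le k hI hdim.le) S hS fun z hz =>
    exists_top_generization k hdim hI (hS' z hz)

theorem cnt (m : ℕ) : ∀ n, Cnt.{u} k m n
  | 0 => cnt_zero m
  | n + 1 => cnt_succ (cnt m n)

end Groth.Agent.TorHyp

end
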