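import Groth.Agent.AVEuler.Homogeneous
import Groth.Agent.Big.Alt

/-!
# Self-intersection numbers and multiplication by `n` on an abelian variety
-/

noncomputable section

set_option autoImplicit false
set_option backward.isDefEq.respectTransparency false
set_option backward.isDefEq.respectTransparency.types false
set_option linter.style.haveILetI false
set_option linter.unusedSectionVars false
set_option maxHeartbeats 1000000

universe u

open CategoryTheory CategoryTheory.Limits AlgebraicGeometry MonoidalCategory CartesianMonoidalCategory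
open scoped MonObj

attribute [-instance] CategoryTheory.catToReflQuiver

namespace Groth.Agent.TorHyp

open H23 H23.CubeAb AVDegPoly AVEuler
open scoped Groth.Agent.H23.PicMul

/-- The alternating sum of a power of a linear form. -/
theorem alt_linear_pow {g : ℕ} (a : Fin g → ℚ) :
    ∑ f : Fin g → Fin 2, Big.sgn f * (∑ i, a i * (Big.cube f i : ℚ)) ^ g =
      (∏ i, a i) * ((-1 : ℚ) ^ g *
        ((∑ i, MvPolynomial.X i : MvPolynomial (Fin g) ℚ) ^ g).coeff (Finsupp.equivFunOnFinite.symm fun _ => 1)) := by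
  classical
  set P : MvPolynomial (Fin g) ℚ := (∑ i, MvPolynomial.X i) ^ g
  have hP : P.totalDegree ≤ g := by
    have h : P.IsHomogeneous (1 * g) :=
      (MvPolynomial.IsHomogeneous.sum _ _ 1 fun i _ => MvPolynomial.isHomogeneous_X ℚ i).pow g
    rw [one_mul] at h
    exact h.totalDegree_le
  have e : ∀ f : Fin g → Fin 2, (∑ i, a i * (Big.cube f i : ℚ)) ^ g =
      ∑ d ∈ P.support, P.coeff d * ((∏ i, a i ^ d i) * ∏ i, (Big.cube f i : ℚ) ^ d i) := fun f => by
    rw [← show MvPolynomial.eval (fun i => a i * (Big.cube f i : ℚ)) P = (∑ i, a i * (Big.cube f i : ℚ)) ^ g by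
      simp [P], MvPolynomial.eval_eq']
    exact Finset.sum_congr rfl fun d _ => by rw [← Finset.prod_mul_distrib]; simp [mul_pow]
  simp only [e, Finset.mul_sum]
  rw [Finset.sum_comm]
  calc ∑ d ∈ P.support, ∑ f : Fin g → Fin 2, Big.sgn f * (P.coeff d * ((∏ i, a i ^ d i) * ∏ i, (Big.cube f i : ℚ) ^ d i))
      = ∑ d ∈ P.support, P.coeff d * (∏ i, a i ^ d i) *
          (if d = Finsupp.equivFunOnFinite.symm (fun _ => 1) then (-1 : ℚ) ^ g else 0) := by
        refine Finset.sum_congr rfl fun d hd => ?_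
        rw [← Big.alt_monomial d ((MvPolynomial.le_totalDegree hd).trans hP), Finset.mul_sum]
        exact Finset.sum_congr rfl fun f _ => by ring
    _ = _ := by
        simp only [mul_ite, mul_zero, Finset.sum_ite_eq']
        split_ifs with h
        · simp only [Finsupp.equivFunOnFinite_symm_apply_apply, pow_one]; ring
        · rw [MvPolynomial.notMem_support_iff.1 h]; ring

variable {k : Type u} [Field k] {A : Over (Spec (CommRingCat.of k))} [IsProper A.hom] [GrpObj A]
  [GeometricallyIntegral A.hom]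

/-- Pullback along a power of the identity. -/
theorem exists_R_pow {u : (PicF.Cl A.left)ˣ} (hu : PicF.IsInvertibleCl (u : PicF.Cl A.left)) :
    ∀ n : ℕ, ∃ j : ℤ, R u (𝟙 A ^ n) = u ^ (n ^ 2) * (R u (𝟙 A)⁻¹ / u) ^ j
  | 0 => ⟨0, by
      rw [pow_zero, zpow_zero, _root_.mul_one]
      exact (Units.ext (F_one hu)).trans (pow_zero u).symm⟩
  | 1 => ⟨0, by rw [pow_one, R_id]; simp⟩
  | n + 2 => by
    obtain ⟨j₁, h1⟩ := exists_R_pow hu (n + 1)
    obtain ⟨j₀, h0⟩ := exists_R_pow hu n
    have h := R_cube hu (𝟙 A ^ (n + 1)) (𝟙 A) ((𝟙 A)⁻¹)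
    have e1 : R u (1 : A ⟶ A) = 1 := Units.ext (F_one hu)
    rw [mul_inv_cancel_right, mul_inv_cancel, e1, ← pow_succ, show 𝟙 A ^ (n + 1) * (𝟙 A)⁻¹ = 𝟙 A ^ n by
      rw [pow_succ, mul_inv_cancel_right], h1, h0, R_id, _root_.mul_one] at h
    refine ⟨2 * j₁ - j₀ + 1, mul_right_cancel (b := u ^ (n ^ 2) * (R u (𝟙 A)⁻¹ / u) ^ j₀) ?_⟩
    rw [show n + 1 + 1 = n + 2 from rfl] at h
    rw [← h]
    set v := R u (𝟙 A)⁻¹
    apply Additive.ofMul.injective
    simp only [ofMul_mul, ofMul_pow, ofMul_zpow, ofMul_div]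
    module

variable [IsAlgClosed k]

/-- The difference with the inverse is invariant. -/
theorem F_invariant {u : (PicF.Cl A.left)ˣ} (hu : PicF.IsInvertibleCl (u : PicF.Cl A.left)) (j : ℤ)
    (a : 𝟙_ (Over (Spec (CommRingCat.of k))) ⟶ A) :
    F (((R u (𝟙 A)⁻¹ / u) ^ j : (PicF.Cl A.left)ˣ) : PicF.Cl A.left) (tr a) =
      (((R u (𝟙 A)⁻¹ / u) ^ j : (PicF.Cl A.left)ˣ) : PicF.Cl A.left) := by
  haveI : IsCommMonObj A := isCommMonObj_of_isProper_of_geometricallyIntegral A
  set d := R u (𝟙 A)⁻¹ / u with hd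
  have h : R d (tr a) = d := by
    have hs : Units.map (PicMul.pullHom (tr a).left) (R u (𝟙 A)⁻¹) * u = R u (𝟙 A)⁻¹ * R u (tr a) :=
      Units.ext (H23.CubeAb.symmetric hu a)
    rw [hd]
    show Units.map _ (R u (𝟙 A)⁻¹ / u) = R u (𝟙 A)⁻¹ / u
    rw [map_div, div_eq_div_iff_mul_eq_mul, hs]
  show ((R (d ^ j) (tr a) : (PicF.Cl A.left)ˣ) : PicF.Cl A.left) = _
  rw [show R (d ^ j) (tr a) = Units.map (PicMul.pullHom (tr a).left) d ^ j from map_zpow _ d j,
    show Units.map (PicMul.pullHom (tr a).left) d = d from h]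

/-- The symbol of classes that are powers of one class up to invariant classes. -/
theorem alt_eq_prod [A.left.Over (Spec (CommRingCat.of k))] (hover : (A.left ↘ Spec (CommRingCat.of k)) = A.hom)
    [hp : IsProper (A.left ↘ Spec (CommRingCat.of k))] {g : ℕ} (hg : topologicalKrullDim A.left = g)
    {u : (PicF.Cl A.left)ˣ} (hu : PicF.IsInvertibleCl (u : PicF.Cl A.left)) {M : Fin g → A.left.Modules} (a : Fin g → ℕ)
    (hM : ∀ i, ∃ j : ℤ, PicF.cl (M i) = ((u ^ a i * (R u (𝟙 A)⁻¹ / u) ^ j : (PicF.Cl A.left)ˣ) : PicF.Cl A.left)) :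
    Big.alt k M (Coh.structureModule A.left) = (∏ i, (a i : ℚ)) * (((-1 : ℚ) ^ g *
        ((∑ i, MvPolynomial.X i : MvPolynomial (Fin g) ℚ) ^ g).coeff (Finsupp.equivFunOnFinite.symm fun _ => 1)) *
      chi A (u : PicF.Cl A.left)) := by
  choose j hj using hM
  set d := R u (𝟙 A)⁻¹ / u
  have hd : PicF.IsInvertibleCl (d : PicF.Cl A.left) := by
    simp only [d, div_eq_mul_inv, Units.val_mul]
    exact H23.PicMul.isInvertibleCl_mul (isInvertibleCl_R hu _) (isInvertibleCl_units _ hu)
  rw [← mul_assoc, ← alt_linear_pow fun i => (a i : ℚ), Finset.sum_mul, Big.alt]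
  refine Finset.sum_congr rfl fun f _ => ?_
  rw [mul_assoc]
  congr 1
  have hcl : PicF.cl (Curv2.tensorPows (Coh.structureModule A.left) g M (Big.cube f)) =
      ((u ^ ((∑ i, a i * Big.cube f i : ℕ) : ℤ) : (PicF.Cl A.left)ˣ) : PicF.Cl A.left) *
        ((d ^ (∑ i, j i * (Big.cube f i : ℤ)) : (PicF.Cl A.left)ˣ) : PicF.Cl A.left) := by
    rw [Big.cl_tensorPows, ← H23.PicMul.one_def, _root_.one_mul, ← Units.val_mul]
    simp only [hj, ← Units.val_pow_eq_pow_val]
    rw [← Units.coe_prod]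
    congr 1
    rw [zpow_natCast, ← Finset.prod_pow_eq_pow_sum]
    have : ∀ (s : Finset (Fin g)) (e : Fin g → ℤ), d ^ (∑ i ∈ s, e i) = ∏ i ∈ s, d ^ e i := fun s e => by
      induction s using Finset.cons_induction with
      | empty => simp
      | cons b s hb ih => rw [Finset.sum_cons, Finset.prod_cons, zpow_add, ih]
    rw [this, ← Finset.prod_mul_distrib]
    refine Finset.prod_congr rfl fun i _ => ?_
    rw [mul_pow, ← pow_mul, zpow_mul, zpow_natCast]
  have key : (Curv2.euler k A.left (Curv2.tensorPows (Coh.structureModule A.left) g M (Big.cube f))) =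
      chi A (PicF.cl (Curv2.tensorPows (Coh.structureModule A.left) g M (Big.cube f))) := by
    rw [AVEuler.chi_cl]
    congr 1
    exact congrArg OverClass.ofHom hover
  rw [Snapper.χs, key, hcl, chi_mul_invariant A (isInvertibleCl_zpow u hu _) (isInvertibleCl_zpow d hd _)
    (F_invariant hu _), chi_zpow hg hu]
  push_cast
  rfl

end Groth.Agent.TorHyp

end
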